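import Groth.Agent.InvQ.K701.Basic
import Groth.Agent.S0401
import Groth.Agent.Ega4B.DimFT2
import Mathlib.RingTheory.ZariskisMainTheorem
import Mathlib.RingTheory.Spectrum.Prime.Chevalley
import Mathlib.RingTheory.FinitePresentation
import Mathlib.RingTheory.Ideal.MinimalPrime.Localization
import Mathlib.RingTheory.KrullDimension.NonZeroDivisors

/-!
# Points, fibres and dimensions of algebras of finite type over an algebraically closed field

* `exists_open_points`: the image on points of a morphism contains a nonempty open subset of the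
  closure of the image of a prime;
* `quasiFiniteAt_of_finite`: a morphism is quasi-finite at a point whose fibre has finitely many
  points;
* `ringKrullDim_le_of_finite`: hence the dimension of the source is at most that of the target;
* `ringKrullDim_le_of_injective`, `eq_of_le_of_ringKrullDim_le`, `exists_prime_maximal_dim`.
-/

set_option autoImplicit false

universe u v w

namespace K701.Dim

open Groth.Agent.Books PrimeSpectrum

section Chevalley

variable {k : Type u} [Field k] [IsAlgClosed k] {B : Type v} [CommRing B] [Algebra k B]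
  [Algebra.FiniteType k B] {A : Type w} [CommRing A] [Algebra k A] [Algebra.FiniteType k A]

/-- Chevalley's theorem for points. -/
theorem exists_open_points (φ : B →ₐ[k] A) (q : Ideal A) [q.IsPrime] :
    ∃ f : B, f ∉ q.comap φ ∧ ∀ y : B →ₐ[k] k, (∀ b ∈ q.comap φ, y b = 0) → y f ≠ 0 →
      ∃ g : A →ₐ[k] k, g.comp φ = y := by
  classical
  have hN : IsNoetherianRing B := Algebra.FiniteType.isNoetherianRing k B
  have hft : φ.toRingHom.FiniteType := by
    have h1 : (φ.toRingHom.comp (algebraMap k B)).FiniteType := by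
      have h2 : φ.toRingHom.comp (algebraMap k B) = algebraMap k A := φ.comp_algebraMap
      rw [h2]
      exact (RingHom.finiteType_algebraMap).mpr inferInstance
    exact RingHom.FiniteType.of_comp_finiteType h1
  have hfp : φ.toRingHom.FinitePresentation := RingHom.FinitePresentation.of_finiteType.mp hft
  obtain ⟨S, hS⟩ := exists_constructibleSetData_iff.mpr (isConstructible_range_comap hfp)
  have h0 : comap φ.toRingHom ⟨q, inferInstance⟩ ∈ S.toSet := by
    rw [hS]
    exact ⟨_, rfl⟩
  simp only [ConstructibleSetData.toSet, Set.mem_iUnion] at h0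
  obtain ⟨C, hC, hgC, hfC⟩ := h0
  refine ⟨C.f, ?_, fun y hy hyf => ?_⟩
  · intro h
    apply hfC
    rw [mem_zeroLocus, Set.singleton_subset_iff]
    exact h
  · have hmax : (RingHom.ker y).IsPrime := RingHom.ker_isPrime _
    have hmem : (⟨_, hmax⟩ : PrimeSpectrum B) ∈ S.toSet := by
      simp only [ConstructibleSetData.toSet, Set.mem_iUnion]
      refine ⟨C, hC, ?_, ?_⟩
      · rw [mem_zeroLocus]
        rintro _ ⟨i, rfl⟩
        exact hy _ (hgC ⟨i, rfl⟩)
      · rw [mem_zeroLocus, Set.singleton_subset_iff]
        exact hyf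
    rw [hS] at hmem
    obtain ⟨Q, hQ⟩ := hmem
    have hQker : ∀ b, y b = 0 → φ b ∈ Q.asIdeal := by
      intro b hb
      have h1 : b ∈ (comap φ.toRingHom Q).asIdeal := by
        rw [hQ]
        exact hb
      exact h1
    obtain ⟨g, hg⟩ := K701.Basic.exists_point_of_ne_top k A Q.asIdeal Q.2.ne_top
    refine ⟨g, ?_⟩
    ext b
    have h1 := hg _ (hQker (b - algebraMap k B (y b)) (by
      rw [map_sub, AlgHom.commutes, Algebra.algebraMap_self_apply, sub_self]))
    rw [map_sub, map_sub, sub_eq_zero, AlgHom.commutes, AlgHom.commutes,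
      Algebra.algebraMap_self_apply] at h1
    exact h1

end Chevalley

section QuasiFinite

variable {k : Type u} [Field k] [IsAlgClosed k] {B : Type v} [CommRing B] [Algebra k B]
  {S : Type w} [CommRing S] [Algebra k S] [Algebra.FiniteType k S]
  [Algebra B S] [IsScalarTower k B S]

omit [IsAlgClosed k] [Algebra.FiniteType k S] in
lemma eq_of_ker_le {g g' : S →ₐ[k] k} (h : RingHom.ker g ≤ RingHom.ker g') : g = g' := by
  ext s
  have h1 : s - algebraMap k S (g s) ∈ RingHom.ker g := by
    rw [RingHom.mem_ker, map_sub, AlgHom.commutes, Algebra.algebraMap_self_apply, sub_self]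
  have h2 := h h1
  rw [RingHom.mem_ker, map_sub, AlgHom.commutes, Algebra.algebraMap_self_apply, sub_eq_zero] at h2
  exact h2.symm

instance isPrime_ker (g : S →ₐ[k] k) : (RingHom.ker g).IsPrime := RingHom.ker_isPrime _

omit [IsAlgClosed k] [Algebra.FiniteType k S] in
lemma isMaximal_ker (g : S →ₐ[k] k) : (RingHom.ker g).IsMaximal :=
  RingHom.ker_isMaximal_of_surjective _ fun c => ⟨algebraMap k S c, by simp⟩

theorem quasiFiniteAt_of_finite (g₀ : S →ₐ[k] k)
    (hfin : {g : S →ₐ[k] k | ∀ b : B, g (algebraMap B S b) = g₀ (algebraMap B S b)}.Finite) :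
    Algebra.QuasiFiniteAt B (RingHom.ker g₀) := by
  classical
  have hft : Algebra.FiniteType B S := Algebra.FiniteType.of_restrictScalars_finiteType k B S
  refine (Algebra.quasiFiniteAt_iff_isOpen_singleton_fiber (R := B)
    (⟨RingHom.ker g₀, inferInstance⟩ : PrimeSpectrum S)).2 ?_
  have h1 : ∀ g : S →ₐ[k] k, g ≠ g₀ → ∃ f : S, g f = 0 ∧ g₀ f ≠ 0 := by
    intro g hg
    by_contra hcon
    push Not at hcon
    exact hg (eq_of_ker_le fun s hs => hcon s hs)
  choose f hf0 hf1 using h1
  set F : S := ∏ g ∈ hfin.toFinset, if h : g = g₀ then 1 else f g h with hF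
  have hF0 : g₀ F ≠ 0 := by
    rw [hF, map_prod, Finset.prod_ne_zero_iff]
    intro g _
    split_ifs with h
    · rw [map_one]; exact one_ne_zero
    · exact hf1 g h
  have hF1 : ∀ g : S →ₐ[k] k, (∀ b : B, g (algebraMap B S b) = g₀ (algebraMap B S b)) →
      g ≠ g₀ → g F = 0 := by
    intro g hg hne
    rw [hF, map_prod]
    refine Finset.prod_eq_zero (hfin.mem_toFinset.2 hg) ?_
    rw [dif_neg hne]
    exact hf0 g hne
  rw [isOpen_induced_iff]
  refine ⟨basicOpen F, isOpen_basicOpen, ?_⟩
  ext ⟨P, hP⟩
  rw [Set.mem_singleton_iff, Subtype.ext_iff, Set.mem_preimage, SetLike.mem_coe, mem_basicOpen]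
  change F ∉ P.asIdeal ↔ P = (⟨RingHom.ker g₀, inferInstance⟩ : PrimeSpectrum S)
  constructor
  · intro hFP
    have h2 : RingHom.ker g₀ ≤ P.asIdeal := by
      intro s hs
      have h3 : s * F ∈ P.asIdeal.radical := by
        refine K701.Basic.mem_radical_of_forall_point (k := k) _ _ fun g hg => ?_
        by_cases hgg : g = g₀
        · rw [map_mul, hgg, hs, zero_mul]
        · rw [map_mul, hF1 g ?_ hgg, mul_zero]
          intro b
          have h4 : algebraMap B S (b - algebraMap k B (g₀ (algebraMap B S b))) ∈ P.asIdeal := by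
            have h5 : (b - algebraMap k B (g₀ (algebraMap B S b))) ∈
                (comap (algebraMap B S) P).asIdeal := by
              rw [show comap (algebraMap B S) P = _ from hP]
              change algebraMap B S _ ∈ RingHom.ker g₀
              rw [RingHom.mem_ker, map_sub, map_sub, ← IsScalarTower.algebraMap_apply,
                AlgHom.commutes, Algebra.algebraMap_self_apply, sub_self]
            exact h5
          have h6 := hg _ h4
          rw [map_sub, map_sub, ← IsScalarTower.algebraMap_apply, AlgHom.commutes,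
            Algebra.algebraMap_self_apply, sub_eq_zero] at h6
          exact h6
      rw [P.2.radical] at h3
      exact (P.2.mem_or_mem h3).resolve_right hFP
    have := isMaximal_ker g₀
    exact PrimeSpectrum.ext (Ideal.IsMaximal.eq_of_le this P.2.ne_top h2).symm
  · intro h
    rw [h]
    exact hF0

end QuasiFinite

section Dimension

variable {k : Type u} [Field k] [IsAlgClosed k] {B : Type u} [CommRing B] [Algebra k B]
  [Algebra.FiniteType k B]
  {S : Type u} [CommRing S] [Algebra k S] [Algebra.FiniteType k S]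

omit [Algebra.FiniteType k B] in
/-- If a fibre of a morphism from an irreducible variety is finite, the dimension of the source is
at most the dimension of the target. -/
theorem ringKrullDim_le_of_finite [IsDomain S] (φ : B →ₐ[k] S) (g₀ : S →ₐ[k] k)
    (hfin : {g : S →ₐ[k] k | g.comp φ = g₀.comp φ}.Finite) :
    ringKrullDim S ≤ ringKrullDim B := by
  let := φ.toRingHom.toAlgebra
  have : IsScalarTower k B S := IsScalarTower.of_algebraMap_eq fun c => (φ.commutes c).symm
  have hft : Algebra.FiniteType B S := Algebra.FiniteType.of_restrictScalars_finiteType k B S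
  have hqf : Algebra.QuasiFiniteAt B (RingHom.ker g₀) := by
    refine quasiFiniteAt_of_finite g₀ (hfin.subset ?_)
    intro g hg
    ext b
    exact hg b
  have h1 := Groth.Agent.S0401.result (R := B) (S := S) (RingHom.ker g₀)
  have hm : (RingHom.ker g₀).IsMaximal := isMaximal_ker g₀
  rw [IsLocalization.AtPrime.ringKrullDim_eq_height (RingHom.ker g₀),
    Groth.Agent.Ega4B.DimFT.height_maximal k S] at h1
  refine h1.trans ?_
  rw [IsLocalization.AtPrime.ringKrullDim_eq_height ((RingHom.ker g₀).under B)]
  exact Ideal.height_le_ringKrullDim_of_isPrime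

omit [IsAlgClosed k] in
theorem ringKrullDim_le_of_injective [IsDomain B] [IsDomain S] (φ : B →ₐ[k] S)
    (hφ : Function.Injective φ) : ringKrullDim B ≤ ringKrullDim S := by
  obtain ⟨n, hn, hn'⟩ := Groth.Agent.Ega4B.DimFT.exists_dim k B
  obtain ⟨m, hm, hm'⟩ := Groth.Agent.Ega4B.DimFT.exists_dim k S
  have h1 := trdeg_le_of_injective φ hφ
  rw [hn, hm, Nat.cast_le] at h1
  rw [hn', hm']
  exact_mod_cast h1

omit [IsAlgClosed k] in
variable (k) in
include k in
theorem eq_of_le_of_ringKrullDim_le {P Q : Ideal B} [P.IsPrime] [Q.IsPrime] (h : P ≤ Q)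
    (hd : ringKrullDim (B ⧸ P) ≤ ringKrullDim (B ⧸ Q)) : P = Q := by
  refine le_antisymm h fun b hb => ?_
  by_contra hbP
  have h1 : (Ideal.Quotient.mk P b) ≠ 0 := by
    rwa [Ne, Ideal.Quotient.eq_zero_iff_mem]
  have h2 := ringKrullDim_succ_le_of_surjective (Ideal.Quotient.factor h)
    (Ideal.Quotient.factor_surjective h) (mem_nonZeroDivisors_of_ne_zero h1) (by
      rw [Ideal.Quotient.factor_mk, Ideal.Quotient.eq_zero_iff_mem]
      exact hb)
  obtain ⟨n, -, hn⟩ := Groth.Agent.Ega4B.DimFT.exists_dim k (B ⧸ P)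
  obtain ⟨m, -, hm⟩ := Groth.Agent.Ega4B.DimFT.exists_dim k (B ⧸ Q)
  rw [hn, hm] at hd h2
  have h3 : n ≤ m := by exact_mod_cast hd
  have h4 : m + 1 ≤ n := by exact_mod_cast h2
  omega

omit [IsAlgClosed k] in
variable (k B) in
include k in
/-- A prime of maximal dimension. -/
theorem exists_prime_maximal_dim [Nontrivial B] :
    ∃ P : Ideal B, P.IsPrime ∧ ∀ Q : Ideal B, Q.IsPrime →
      ringKrullDim (B ⧸ Q) ≤ ringKrullDim (B ⧸ P) := by
  have hN : IsNoetherianRing B := Algebra.FiniteType.isNoetherianRing k B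
  obtain ⟨m, hm⟩ := Ideal.exists_maximal B
  have hne : (minimalPrimes B).Nonempty := by
    obtain ⟨P, hP, -⟩ := Ideal.exists_minimalPrimes_le (I := ⊥) (J := m) bot_le
    exact ⟨P, hP⟩
  obtain ⟨P, hP, hPmax⟩ := (minimalPrimes.finite_of_isNoetherianRing B).exists_maximalFor
    (fun P => ringKrullDim (B ⧸ P)) _ hne
  refine ⟨P, hP.1.1, fun Q hQ => ?_⟩
  obtain ⟨Q', hQ', hle⟩ := Ideal.exists_minimalPrimes_le (I := ⊥) (J := Q) bot_le
  have h1 : ringKrullDim (B ⧸ Q) ≤ ringKrullDim (B ⧸ Q') :=
    ringKrullDim_le_of_surjective (Ideal.Quotient.factor hle) (Ideal.Quotient.factor_surjective hle)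
  refine h1.trans ?_
  rcases le_total (ringKrullDim (B ⧸ Q')) (ringKrullDim (B ⧸ P)) with h | h
  · exact h
  · exact hPmax hQ' h

end Dimension

end K701.Dim
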