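import Groth.Agent.InvQ.K701.Orbit
import Groth.Agent.InvQ.K701.Dim

/-!
# Orbits with finite stabilisers

`exists_actPt_eq`: if `z` lies in the closure of the orbit of `x` and has finite stabiliser, then it
lies in the orbit of `x`.
`exists_closed_orbit`: every nonempty stable closed subset contains a closed orbit.
-/

set_option autoImplicit false

universe u v w

open TensorProduct HopfRep

namespace K701.Orbit2

open Groth.Agent.Books.ComodBasic Groth.Agent.Books.ComodHom Groth.Agent.Books.ComodInv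
open Groth.Agent.Books Groth.Agent.Books.ComodPoints K701.Basic GLin K701.Orbit K701.Dim WithConv

section Act

variable {k : Type u} {A : Type v} [Field k] [CommRing A] [HopfAlgebra k A]
variable {R : Type w} [CommRing R] [Algebra k R] [Comod k A R] [IsCoactAlg k A R]

lemma actPt_inv_actPt (x : R →ₐ[k] k) (g : WithConv (A →ₐ[k] k)) :
    actPt k (g⁻¹).ofConv (actPt k g.ofConv x) = x := by
  rw [← actPt_mul, mul_inv_cancel, actPt_one]

lemma actPt_actPt_inv (x : R →ₐ[k] k) (g : WithConv (A →ₐ[k] k)) :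
    actPt k g.ofConv (actPt k (g⁻¹).ofConv x) = x := by
  rw [← actPt_mul, inv_mul_cancel, actPt_one]

lemma actPt_eq_comp (x : R →ₐ[k] k) (g : A →ₐ[k] k) : actPt k g x = g.comp (orbitHom k A x) := rfl

/-- The fibres of the orbit map are cosets of the stabiliser. -/
lemma finite_fibre (z : R →ₐ[k] k) (hfin : {g : A →ₐ[k] k | actPt k g z = z}.Finite)
    (h₀ : A →ₐ[k] k) :
    {h : A →ₐ[k] k | h.comp (orbitHom k A z) = h₀.comp (orbitHom k A z)}.Finite := by
  refine Set.Finite.of_injOn (f := fun h => (toConv h * (toConv h₀)⁻¹).ofConv) ?_ ?_ hfin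
  · intro h hh
    have h1 : actPt k h z = actPt k h₀ z := hh
    change actPt k _ z = z
    rw [actPt_mul]
    change actPt k _ (actPt k h z) = z
    rw [h1]
    exact actPt_inv_actPt z (toConv h₀)
  · intro h _ h' _ hhh
    have h1 : toConv h * (toConv h₀)⁻¹ = toConv h' * (toConv h₀)⁻¹ :=
      WithConv.ofConv_injective hhh
    have h2 := mul_right_cancel h1
    exact WithConv.toConv_injective h2

end Act

section Common

variable {k : Type u} [Field k] [IsAlgClosed k] {A : Type v} [CommRing A] [HopfAlgebra k A]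
  [Algebra.FiniteType k A]
variable {R : Type w} [CommRing R] [Algebra k R] [Comod k A R] [IsCoactAlg k A R]
  [Algebra.FiniteType k R]

/-- If the orbits of `x` and `z` are both dense in a common irreducible closed subset, the points
are in the same orbit. -/
theorem exists_actPt_eq_of_comap_eq (x z : R →ₐ[k] k) (q q' : Ideal A) [q.IsPrime] [q'.IsPrime]
    (h : q.comap (orbitHom k A x) = q'.comap (orbitHom k A z)) :
    ∃ g : A →ₐ[k] k, z = actPt k g x := by
  obtain ⟨f₁, hf₁, h₁⟩ := exists_open_points (orbitHom k A x) q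
  obtain ⟨f₂, hf₂, h₂⟩ := exists_open_points (orbitHom k A z) q'
  set p := q'.comap (orbitHom k A z) with hp
  have hpp : p.IsPrime := Ideal.comap_isPrime _ _
  rw [h] at hf₁ h₁
  obtain ⟨y, hy, hyf⟩ : ∃ y : R →ₐ[k] k, (∀ b ∈ p, y b = 0) ∧ y (f₁ * f₂) ≠ 0 := by
    by_contra hcon
    push Not at hcon
    have h3 := mem_radical_of_forall_point (k := k) p (f₁ * f₂) hcon
    rw [hpp.radical] at h3
    exact (hpp.mem_or_mem h3).elim hf₁ hf₂
  rw [map_mul] at hyf
  obtain ⟨g₁, hg₁⟩ := h₁ y hy (left_ne_zero_of_mul hyf)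
  obtain ⟨g₂, hg₂⟩ := h₂ y hy (right_ne_zero_of_mul hyf)
  refine ⟨(toConv g₁ * (toConv g₂)⁻¹).ofConv, ?_⟩
  rw [actPt_mul]
  change z = actPt k _ (g₁.comp (orbitHom k A x))
  rw [hg₁, ← hg₂]
  exact (actPt_inv_actPt z (toConv g₂)).symm

/-- Points whose orbits have the same closure are in the same orbit. -/
theorem exists_actPt_eq_of_ker_eq (x z : R →ₐ[k] k)
    (h : RingHom.ker (orbitHom k A x) = RingHom.ker (orbitHom k A z)) :
    ∃ g : A →ₐ[k] k, z = actPt k g x := by
  obtain ⟨p, hp, -⟩ := Ideal.exists_minimalPrimes_le (I := RingHom.ker (orbitHom k A x))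
    (J := RingHom.ker x) (ker_orbitHom_le_ker x)
  have hp' : p ∈ (RingHom.ker (orbitHom k A z)).minimalPrimes := h ▸ hp
  obtain ⟨q, hq, -, hqp⟩ := Ideal.exists_comap_eq_of_mem_minimalPrimes
    (I := (⊥ : Ideal A)) (orbitHom k A x).toRingHom p hp
  obtain ⟨q', hq', -, hq'p⟩ := Ideal.exists_comap_eq_of_mem_minimalPrimes
    (I := (⊥ : Ideal A)) (orbitHom k A z).toRingHom p hp'
  exact exists_actPt_eq_of_comap_eq x z q q' (hqp.trans hq'p.symm)

/-- Every nonempty stable closed subset contains a closed orbit: if `I` is a proper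
stable ideal there is a zero `y` of `I` such that every point in the closure of the orbit of `y`
is in the orbit of `y`. -/
theorem exists_closed_orbit (I : Ideal R) (hI : IsSubcomod (k := k) (A := A) (I.restrictScalars k))
    (hne : I ≠ ⊤) :
    ∃ y : R →ₐ[k] k, (∀ f ∈ I, y f = 0) ∧ ∀ z : R →ₐ[k] k,
      (∀ f ∈ RingHom.ker (orbitHom k A y), z f = 0) → ∃ g : A →ₐ[k] k, z = actPt k g y := by
  have hN : IsNoetherianRing R := Algebra.FiniteType.isNoetherianRing k R
  let T : Set (Ideal R) :=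
    {J | I ≤ J ∧ J ≠ ⊤ ∧ IsSubcomod (k := k) (A := A) (J.restrictScalars k)}
  obtain ⟨J, ⟨hIJ, hJne, hJ⟩, hmax⟩ := set_has_maximal_iff_noetherian.2
    (inferInstance : IsNoetherian R R) T ⟨I, le_rfl, hne, hI⟩
  have key : ∀ z : R →ₐ[k] k, (∀ f ∈ J, z f = 0) → RingHom.ker (orbitHom k A z) = J := by
    intro z hz
    have h1 : J ≤ RingHom.ker (orbitHom k A z) := le_ker_orbitHom hJ z hz
    by_contra hcon
    refine hmax (RingHom.ker (orbitHom k A z)) ⟨hIJ.trans h1, ?_, isSubcomod_ker_orbitHom z⟩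
      (lt_of_le_of_ne h1 (Ne.symm hcon))
    intro htop
    have h2 : (1 : R) ∈ RingHom.ker z := ker_orbitHom_le_ker (A := A) z (by rw [htop]; trivial)
    rw [RingHom.mem_ker, map_one] at h2
    exact one_ne_zero h2
  obtain ⟨y, hy⟩ := exists_point_of_ne_top k R J hJne
  refine ⟨y, fun f hf => hy f (hIJ hf), fun z hz => ?_⟩
  rw [key y hy] at hz
  exact exists_actPt_eq_of_ker_eq y z ((key y hy).trans (key z hz).symm)

end Common

section Key

variable {k : Type u} [Field k] [IsAlgClosed k] {A : Type u} [CommRing A] [HopfAlgebra k A]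
  [Algebra.FiniteType k A]
variable {R : Type u} [CommRing R] [Algebra k R] [Comod k A R] [IsCoactAlg k A R]
  [Algebra.FiniteType k R]

/-- A point with finite stabiliser in the closure of an orbit lies in the orbit. -/
theorem exists_actPt_eq (x z : R →ₐ[k] k) (hz : ∀ f ∈ RingHom.ker (orbitHom k A x), z f = 0)
    (hfin : {g : A →ₐ[k] k | actPt k g z = z}.Finite) :
    ∃ g : A →ₐ[k] k, z = actPt k g x := by
  classical
  have hnt : Nontrivial A := (Bialgebra.counitAlgHom k A).toRingHom.domain_nontrivial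
  obtain ⟨q₀, hq₀, hmax⟩ := exists_prime_maximal_dim k A
  set p : Ideal R := q₀.comap (orbitHom k A z) with hp
  have hpp : p.IsPrime := Ideal.comap_isPrime _ _
  have hxz : RingHom.ker (orbitHom k A x) ≤ RingHom.ker (orbitHom k A z) :=
    le_ker_orbitHom (isSubcomod_ker_orbitHom x) z hz
  have hzp : RingHom.ker (orbitHom k A z) ≤ p := by
    intro f hf
    rw [hp, Ideal.mem_comap, (RingHom.mem_ker).1 hf]
    exact q₀.zero_mem
  -- the dimension of the orbit of `z`
  have hd1 : ringKrullDim (A ⧸ q₀) ≤ ringKrullDim (R ⧸ p) := by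
    obtain ⟨g₀⟩ := PointsAC.exists_point k (A ⧸ q₀)
    refine ringKrullDim_le_of_finite (Ideal.quotientMapₐ q₀ (orbitHom k A z) (le_of_eq hp)) g₀ ?_
    refine Set.Finite.of_injOn (f := fun g => g.comp (Ideal.Quotient.mkₐ k q₀)) ?_ ?_
      (finite_fibre z hfin (g₀.comp (Ideal.Quotient.mkₐ k q₀)))
    · intro g hg
      have hg' : g.comp (Ideal.quotientMapₐ q₀ (orbitHom k A z) (le_of_eq hp)) =
        g₀.comp (Ideal.quotientMapₐ q₀ (orbitHom k A z) (le_of_eq hp)) := hg
      change (g.comp (Ideal.Quotient.mkₐ k q₀)).comp (orbitHom k A z) =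
        (g₀.comp (Ideal.Quotient.mkₐ k q₀)).comp (orbitHom k A z)
      ext f
      exact congrArg (fun φ => φ (Ideal.Quotient.mk p f)) hg'
    · intro g _ g' _ hgg
      ext a
      obtain ⟨a, rfl⟩ := Ideal.Quotient.mk_surjective a
      exact congrArg (fun φ => φ a) hgg
  -- a minimal prime of the closure of the orbit of `x`
  obtain ⟨p', hp', hple⟩ := Ideal.exists_minimalPrimes_le (hxz.trans hzp)
  have hp'p : p'.IsPrime := hp'.1.1
  obtain ⟨q', hq', -, hq'p⟩ := Ideal.exists_comap_eq_of_mem_minimalPrimes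
    (I := (⊥ : Ideal A)) (orbitHom k A x).toRingHom p' hp'
  have hd2 : ringKrullDim (R ⧸ p') ≤ ringKrullDim (A ⧸ q') := by
    refine ringKrullDim_le_of_injective
      (Ideal.quotientMapₐ q' (orbitHom k A x) (le_of_eq hq'p.symm)) ?_
    exact Ideal.quotientMap_injective' (H := le_of_eq hq'p.symm) (le_of_eq hq'p)
  have heq : p' = p := eq_of_le_of_ringKrullDim_le k hple
    ((hd2.trans (hmax q' hq')).trans hd1)
  exact exists_actPt_eq_of_comap_eq x z q' q₀ (hq'p.trans heq)

end Key

end K701.Orbit2
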