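import Groth.Agent.InvQ.K701.Orbit2

/-!
# Closed orbits and stable points of comodule algebras over a linearly reductive group

* `ClosedOrb x`: the orbit of `x` is closed (on points);
* `closedOrb_iff`, `setOf_act_eq`: translation of the conditions written with `Comod.act`;
* `exists_common_point`: points with the same invariants have orbit closures that meet;
* `exists_actPt_eq_of_stable`: a point with the same invariants as a stable point is in its orbit.
-/

set_option autoImplicit false

universe u v w

open TensorProduct HopfRep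

namespace K701.Orbit3

open Groth.Agent.Books.ComodBasic Groth.Agent.Books.ComodHom Groth.Agent.Books.ComodInv
open Groth.Agent.Books Groth.Agent.Books.ComodPoints K701.Basic GLin K701.Orbit K701.Orbit2 WithConv

section

variable {k : Type u} {A : Type v} [Field k] [CommRing A] [HopfAlgebra k A]
variable {R : Type w} [CommRing R] [Algebra k R] [Comod k A R] [IsCoactAlg k A R]

variable (A) in
/-- The orbit of `x` is closed, on the level of points. -/
def ClosedOrb (x : R →ₐ[k] k) : Prop :=
  ∀ z : R →ₐ[k] k, (∀ f ∈ RingHom.ker (orbitHom k A x), z f = 0) → ∃ g : A →ₐ[k] k, z = actPt k g x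

lemma actPt_eq_iff (x z : R →ₐ[k] k) (g : A →ₐ[k] k) :
    z = actPt k g x ↔ ∀ f : R, z f = x (Comod.act k A R g f) := by
  constructor
  · rintro rfl f
    rw [orbitHom_act, actPt_apply]
  · intro h
    ext f
    rw [h, orbitHom_act, actPt_apply]

lemma setOf_act_eq (x : R →ₐ[k] k) :
    {g : A →ₐ[k] k | ∀ f : R, x (Comod.act k A R g f) = x f} =
      {g : A →ₐ[k] k | actPt k g x = x} := by
  ext g
  simp only [Set.mem_ofPred_eq]
  constructor
  · intro h
    ext f
    rw [actPt_apply, ← orbitHom_act, h]
  · intro h f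
    rw [orbitHom_act, ← actPt_apply, h]

/-- Stabilisers of points in the same orbit are conjugate. -/
lemma finite_stab_actPt (x : R →ₐ[k] k) (g : A →ₐ[k] k)
    (hfin : {g : A →ₐ[k] k | actPt k g x = x}.Finite) :
    {h : A →ₐ[k] k | actPt k h (actPt k g x) = actPt k g x}.Finite := by
  refine Set.Finite.of_injOn
    (f := fun h => (toConv g * toConv h * (toConv g)⁻¹).ofConv) ?_ ?_ hfin
  · intro h hh
    have h1 : actPt k h (actPt k g x) = actPt k g x := hh
    change actPt k _ x = x
    rw [actPt_mul, actPt_mul]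
    change actPt k _ (actPt k h (actPt k g x)) = x
    rw [h1]
    exact actPt_inv_actPt x (toConv g)
  · intro h _ h' _ hhh
    have h1 : toConv g * toConv h * (toConv g)⁻¹ = toConv g * toConv h' * (toConv g)⁻¹ :=
      WithConv.ofConv_injective hhh
    have h2 := mul_left_cancel (mul_right_cancel h1)
    exact WithConv.toConv_injective h2

variable [IsAlgClosed k] [Algebra.FiniteType k A] [IsReduced A]

lemma closedOrb_iff (x : R →ₐ[k] k) :
    (∀ z : R →ₐ[k] k, (∀ f : R, (∀ g : A →ₐ[k] k, x (Comod.act k A R g f) = 0) → z f = 0) →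
      ∃ g : A →ₐ[k] k, ∀ f : R, z f = x (Comod.act k A R g f)) ↔ ClosedOrb A x := by
  simp only [forall_act_eq_zero_iff, ClosedOrb, actPt_eq_iff]

end

section Reductive

variable {k : Type u} {A : Type v} [Field k] [IsAlgClosed k] [CommRing A] [HopfAlgebra k A]
  [Algebra.FiniteType k A]
variable {R : Type v} [CommRing R] [Algebra k R] [Comod k A R] [IsCoactAlg k A R]
  [Algebra.FiniteType k R]

omit [Algebra.FiniteType k A] in
/-- The closures of the orbits of two points at which the invariants take the same values meet. -/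
lemma exists_common_point (hG : IsLinearlyReductive k A) (x y : R →ₐ[k] k)
    (h : ∀ f ∈ fixedPts k A R, x f = y f) :
    ∃ z : R →ₐ[k] k, (∀ f ∈ RingHom.ker (orbitHom k A x), z f = 0) ∧
      (∀ f ∈ RingHom.ker (orbitHom k A y), z f = 0) := by
  by_cases htop : RingHom.ker (orbitHom k A x) ⊔ RingHom.ker (orbitHom k A y) = ⊤
  · obtain ⟨f, hf, hfx, hfy⟩ := exists_fixed_mem_of_sup_eq_top hG
      (IsCoactAlg.coact_one (k := k) (A := A) (R := R)) _ _
      (isSubcomod_ker_orbitHom x) (isSubcomod_ker_orbitHom y) htop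
    have h1 : x f = 0 := ker_orbitHom_le_ker x hfx
    have h2 : y (f - 1) = 0 := ker_orbitHom_le_ker y hfy
    rw [map_sub, map_one, ← h f hf, h1, zero_sub, neg_eq_zero] at h2
    exact absurd h2 one_ne_zero
  · obtain ⟨z, hz⟩ := exists_point_of_ne_top k R _ htop
    exact ⟨z, fun f hf => hz f (Ideal.mem_sup_left hf), fun f hf => hz f (Ideal.mem_sup_right hf)⟩

omit [Algebra.FiniteType k A] in
/-- A closed orbit is contained in the closure of the orbit of every point with the same
invariants. -/
lemma le_ker_of_closedOrb (hG : IsLinearlyReductive k A) (y x' : R →ₐ[k] k)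
    (hy : ClosedOrb A y) (h : ∀ f ∈ fixedPts k A R, x' f = y f) :
    ∀ f ∈ RingHom.ker (orbitHom k A x'), y f = 0 := by
  obtain ⟨z, hz, hz'⟩ := exists_common_point hG x' y h
  obtain ⟨g, rfl⟩ := hy z hz'
  have h1 : RingHom.ker (orbitHom k A x') ≤ RingHom.ker (orbitHom k A (actPt k g y)) :=
    le_ker_orbitHom (isSubcomod_ker_orbitHom x') _ hz
  rw [ker_orbitHom_actPt] at h1
  exact fun f hf => ker_orbitHom_le_ker (A := A) y (h1 hf)

end Reductive

section Stable

variable {k : Type u} {A : Type u} [Field k] [IsAlgClosed k] [CommRing A] [HopfAlgebra k A]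
  [Algebra.FiniteType k A]
variable {R : Type u} [CommRing R] [Algebra k R] [Comod k A R] [IsCoactAlg k A R]
  [Algebra.FiniteType k R]

/-- A point with the same invariants as a stable point is in its orbit. -/
theorem exists_actPt_eq_of_stable (hG : IsLinearlyReductive k A) (x y : R →ₐ[k] k)
    (hx : ClosedOrb A x) (hfin : {g : A →ₐ[k] k | actPt k g x = x}.Finite)
    (h : ∀ f ∈ fixedPts k A R, x f = y f) : ∃ g : A →ₐ[k] k, y = actPt k g x := by
  obtain ⟨g, hg⟩ := exists_actPt_eq y x
    (le_ker_of_closedOrb hG x y hx fun f hf => (h f hf).symm) hfin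
  refine ⟨((toConv g)⁻¹).ofConv, ?_⟩
  rw [hg]
  exact (actPt_inv_actPt y (toConv g)).symm

/-- Stability in terms of the fibre of the quotient map. -/
theorem stable_iff (hG : IsLinearlyReductive k A) (x : R →ₐ[k] k) :
    (ClosedOrb A x ∧ {g : A →ₐ[k] k | actPt k g x = x}.Finite) ↔
      ∀ z : R →ₐ[k] k, (∀ f ∈ fixedPts k A R, z f = x f) →
        {g : A →ₐ[k] k | actPt k g z = z}.Finite := by
  constructor
  · rintro ⟨hx, hfin⟩ z hz
    obtain ⟨g, rfl⟩ := exists_actPt_eq_of_stable hG x z hx hfin fun f hf => (hz f hf).symm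
    exact finite_stab_actPt x g hfin
  · intro h
    refine ⟨fun z hz => ?_, h x fun f _ => rfl⟩
    exact exists_actPt_eq x z hz (h z fun f hf => eq_of_ker_orbitHom_le x z hz hf)

end Stable

end K701.Orbit3
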