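import Groth.Agent.InvQ.K701.Basic
import Groth.Agent.Books.CoeffMat
import Mathlib.Algebra.MvPolynomial.CommRing
import Mathlib.RingTheory.TensorProduct.Basic

/-!
# The linear action on a polynomial ring defined by a multiplicative matrix

`IsMult.polyComod`: for a multiplicative matrix `m` over a commutative bialgebra `A`, the coaction
`X j ↦ ∑ i, X i ⊗ m i j` on the polynomial ring.
`exists_polyComod_surjective`: every comodule algebra of finite type is a quotient of such.
-/

set_option autoImplicit false

universe u v w

open TensorProduct HopfRep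

namespace K701.PolyComod

open Groth.Agent.Books.ComodBasic Groth.Agent.Books.ComodHom Groth.Agent.Books.ComodInv
open Groth.Agent.Books Groth.Agent.Books.CoeffMat K701.Basic

section

variable {k : Type u} {A : Type v} [Field k] [CommRing A] [Bialgebra k A]
variable {ι : Type w} [Fintype ι] [DecidableEq ι]

/-- The algebra map `X j ↦ ∑ i, X i ⊗ m i j`. -/
noncomputable def polyCoactAlg (k : Type u) {A : Type v} [Field k] [CommRing A] [Bialgebra k A]
    {ι : Type w} [Fintype ι] (m : Matrix ι ι A) :
    MvPolynomial ι k →ₐ[k] MvPolynomial ι k ⊗[k] A :=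
  MvPolynomial.aeval fun j => ∑ i : ι, MvPolynomial.X i ⊗ₜ[k] m i j

omit [DecidableEq ι] in
@[simp] theorem polyCoactAlg_X (m : Matrix ι ι A) (j : ι) :
    polyCoactAlg k m (MvPolynomial.X j) = ∑ i : ι, MvPolynomial.X i ⊗ₜ[k] m i j := by
  simp [polyCoactAlg]

theorem polyCoactAlg_coassoc {m : Matrix ι ι A} (hm : IsMult k m) :
    (Algebra.TensorProduct.assoc k k k (MvPolynomial ι k) A A).toAlgHom.comp
        ((Algebra.TensorProduct.map (polyCoactAlg k m) (AlgHom.id k A)).comp (polyCoactAlg k m)) =
      (Algebra.TensorProduct.map (AlgHom.id k _) (Bialgebra.comulAlgHom k A)).comp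
        (polyCoactAlg k m) := by
  apply MvPolynomial.algHom_ext
  intro i
  simp only [AlgHom.comp_apply, polyCoactAlg_X, map_sum, Algebra.TensorProduct.map_tmul,
    AlgHom.id_apply, TensorProduct.sum_tmul, TensorProduct.tmul_sum, Bialgebra.comulAlgHom_apply,
    hm.comul]
  exact Finset.sum_comm

theorem polyCoactAlg_counit {m : Matrix ι ι A} (hm : IsMult k m) :
    (Algebra.TensorProduct.rid k k (MvPolynomial ι k)).toAlgHom.comp
        ((Algebra.TensorProduct.map (AlgHom.id k _) (Bialgebra.counitAlgHom k A)).comp
          (polyCoactAlg k m)) =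
      AlgHom.id k _ := by
  apply MvPolynomial.algHom_ext
  intro i
  simp [Bialgebra.counitAlgHom_apply, hm.counit, tmul_ite]

/-- The comodule structure on the polynomial ring. -/
@[reducible] noncomputable def polyComod {m : Matrix ι ι A} (hm : IsMult k m) :
    HopfRep.Comod k A (MvPolynomial ι k) where
  coact := (polyCoactAlg k m).toLinearMap
  coassoc := by
    refine LinearMap.ext fun p => ?_
    exact congrArg (fun φ => φ p) (polyCoactAlg_coassoc hm)
  counit_comp := by
    refine LinearMap.ext fun p => ?_
    have h' : (Algebra.TensorProduct.rid k k (MvPolynomial ι k))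
        (LinearMap.lTensor (MvPolynomial ι k) (CoalgebraStruct.counit (R := k) (A := A))
          (polyCoactAlg k m p)) = p := congrArg (fun φ => φ p) (polyCoactAlg_counit hm)
    apply (Algebra.TensorProduct.rid k k (MvPolynomial ι k)).injective
    simpa using h'

theorem polyComod_coact {m : Matrix ι ι A} (hm : IsMult k m) (p : MvPolynomial ι k) :
    (polyComod hm).coact p = polyCoactAlg k m p := rfl

end

section

variable {k : Type u} {A : Type v} [Field k] [CommRing A] [Bialgebra k A]
variable {R : Type w} [CommRing R] [Algebra k R] [Comod k A R]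

/-- A comodule algebra of finite type is the quotient of a polynomial ring with a linear action. -/
theorem exists_polyComod_surjective [Algebra.FiniteType k R]
    (hmul : ∀ f g : R, Comod.coact (k := k) (A := A) (f * g) =
      Comod.coact (k := k) (A := A) f * Comod.coact (k := k) (A := A) g)
    (hone : Comod.coact (k := k) (A := A) (1 : R) = 1) :
    ∃ (n : ℕ) (m : Matrix (Fin n) (Fin n) A) (hm : IsMult k m) (π : MvPolynomial (Fin n) k →ₐ[k] R),
      Function.Surjective π ∧ letI := polyComod hm; IsComodHom k A π.toLinearMap := by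
  classical
  obtain ⟨s, hs⟩ := (inferInstance : Algebra.FiniteType k R).out
  obtain ⟨W, hW, hWfin, hsW⟩ := exists_finite_isSubcomod_ge (k := k) (A := A)
    (Submodule.span k (s : Set R))
  let := subComod W hW
  have hsub : IsComodHom k A W.subtype := isComodHom_subtype W hW
  let b := Module.finBasis k W
  have hm : IsMult k (CoeffMat.coeffMat A b) := coeffMat_isMult A b
  let π : MvPolynomial (Fin (Module.finrank k W)) k →ₐ[k] R := MvPolynomial.aeval fun i => (b i : R)
  let ρ : R →ₐ[k] R ⊗[k] A := AlgHom.ofLinearMap (Comod.coact (k := k) (A := A)) hone hmul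
  refine ⟨_, _, hm, π, ?_, ?_⟩
  · rw [← AlgHom.range_eq_top, eq_top_iff, ← hs]
    refine Algebra.adjoin_le fun x hx => ?_
    have hxW : x ∈ W := hsW (Submodule.subset_span hx)
    have h1 : x = ∑ i, b.repr ⟨x, hxW⟩ i • (b i : R) := by
      have := congrArg W.subtype (b.sum_repr ⟨x, hxW⟩)
      rw [map_sum] at this
      exact this.symm
    rw [h1]
    refine Subalgebra.sum_mem _ fun i _ => Subalgebra.smul_mem _ ?_ _
    exact ⟨MvPolynomial.X i, by simp [π]⟩
  · have h : ρ.comp π = (Algebra.TensorProduct.map π (AlgHom.id k A)).comp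
        (polyCoactAlg k (CoeffMat.coeffMat A b)) := by
      apply MvPolynomial.algHom_ext
      intro i
      have h1 : ρ (b i : R) = ∑ j, (b j : R) ⊗ₜ[k] CoeffMat.coeffMat A b j i := by
        have h2 := hsub (b i)
        rw [coact_basis, map_sum] at h2
        exact h2
      simp [π, h1]
    intro f
    exact congrArg (fun φ => φ f) h

end

end K701.PolyComod
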