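import Groth.Agent.InvQ.K701.Basic
import Groth.Agent.Localalg.CartierSch
import Groth.Agent.Books.AffBridge2
import Groth.Prelude.Def_GLin

/-!
# Orbits of points of comodule algebras

* `orbitHom_act`: `x (g · f) = g (orbitHom x f)`;
* `comul_orbitHom`: the orbit map is a comodule homomorphism into the regular comodule, so that its
  kernel (the ideal of the orbit closure) is a stable ideal;
* `isReduced_hopf`: Cartier's theorem;
* `forall_act_eq_zero_iff`: `f` vanishes on the orbit iff it is in the kernel of the orbit map.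
-/

set_option autoImplicit false

universe u v w

open TensorProduct HopfRep

namespace K701.Orbit

open Groth.Agent.Books.ComodBasic Groth.Agent.Books.ComodHom Groth.Agent.Books.ComodInv
open Groth.Agent.Books Groth.Agent.Books.ComodPoints K701.Basic GLin

section

variable {k : Type u} {A : Type v} [Field k] [CommRing A] [Bialgebra k A]
variable {R : Type w} [CommRing R] [Algebra k R] [Comod k A R] [IsCoactAlg k A R]

lemma orbitHom_apply (x : R →ₐ[k] k) (f : R) :
    orbitHom k A x f = TensorProduct.lid k A
      (x.toLinearMap.rTensor A (Comod.coact (k := k) (A := A) f)) := rfl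

/-- The value at `x` of the translate of `f` is the value at `g` of the orbit map of `x`. -/
lemma orbitHom_act (x : R →ₐ[k] k) (g : A →ₐ[k] k) (f : R) :
    x (Comod.act k A R g f) = g (orbitHom k A x f) :=
  coef f x.toLinearMap g

/-- The orbit map is the coefficient map of the functional `x`. -/
lemma orbitHom_eq_coeffMap (x : R →ₐ[k] k) :
    (orbitHom k A x).toLinearMap = coeffMap A x.toLinearMap := by
  ext f
  rfl

/-- The orbit map is a homomorphism of comodules. -/
lemma isComodHom_orbitHom (x : R →ₐ[k] k) :
    IsComodHom k A (orbitHom k A x).toLinearMap := by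
  rw [orbitHom_eq_coeffMap]
  exact isComodHom_coeffMap _

/-- The ideal of the orbit closure is stable. -/
lemma isSubcomod_ker_orbitHom (x : R →ₐ[k] k) :
    IsSubcomod (k := k) (A := A) ((RingHom.ker (orbitHom k A x)).restrictScalars k) :=
  (isComodHom_orbitHom x).isSubcomod_ker

lemma counit_orbitHom (x : R →ₐ[k] k) (f : R) :
    CoalgebraStruct.counit (R := k) (orbitHom k A x f) = x f := by
  have := counit_coeffMap (k := k) (A := A) x.toLinearMap f
  rw [← orbitHom_eq_coeffMap] at this
  exact this

/-- The orbit map of a fixed element is constant. -/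
lemma orbitHom_of_mem_fixedPts (x : R →ₐ[k] k) {f : R} (hf : f ∈ fixedPts k A R) :
    orbitHom k A x f = algebraMap k A (x f) := by
  rw [orbitHom_apply, (mem_fixedPts_iff f).1 hf]
  simp [Algebra.algebraMap_eq_smul_one]

lemma ker_orbitHom_le_ker (x : R →ₐ[k] k) :
    RingHom.ker (orbitHom k A x) ≤ RingHom.ker x := by
  intro f hf
  rw [RingHom.mem_ker] at hf ⊢
  rw [← counit_orbitHom (A := A), hf, map_zero]

/-- A stable ideal contained in the ideal of a point is contained in the ideal of the orbit
closure. -/
lemma le_ker_orbitHom {I : Ideal R} (hI : IsSubcomod (k := k) (A := A) (I.restrictScalars k))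
    (x : R →ₐ[k] k) (hx : ∀ f ∈ I, x f = 0) : I ≤ RingHom.ker (orbitHom k A x) := by
  intro f hf
  rw [RingHom.mem_ker, orbitHom_apply]
  obtain ⟨t, ht⟩ := hI f hf
  rw [← ht]
  have : x.toLinearMap ∘ₗ (I.restrictScalars k).subtype = 0 := by
    ext a
    exact hx a.1 a.2
  rw [← LinearMap.comp_apply, ← LinearMap.rTensor_comp, this, LinearMap.rTensor_zero,
    LinearMap.zero_apply, map_zero]

/-- Invariants are constant on orbit closures. -/
lemma eq_of_ker_orbitHom_le (x z : R →ₐ[k] k) (h : ∀ f ∈ RingHom.ker (orbitHom k A x), z f = 0)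
    {f : R} (hf : f ∈ fixedPts k A R) : z f = x f := by
  have h1 : f - algebraMap k R (x f) ∈ RingHom.ker (orbitHom k A x) := by
    rw [RingHom.mem_ker, map_sub, orbitHom_of_mem_fixedPts x hf, AlgHom.commutes, sub_self]
  have h2 := h _ h1
  rw [map_sub, AlgHom.commutes, sub_eq_zero] at h2
  exact h2

lemma actPt_apply (x : R →ₐ[k] k) (g : A →ₐ[k] k) (f : R) :
    actPt k g x f = g (orbitHom k A x f) := rfl

/-- The orbit map of a translated point. -/
lemma orbitHom_actPt (x : R →ₐ[k] k) (g : A →ₐ[k] k) (f : R) :
    orbitHom k A (actPt k g x) f = TensorProduct.lid k A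
      (g.toLinearMap.rTensor A (CoalgebraStruct.comul (R := k) (orbitHom k A x f))) := by
  have h1 := isComodHom_orbitHom (k := k) (A := A) x f
  have h2 : CoalgebraStruct.comul (R := k) (orbitHom k A x f) =
      (orbitHom k A x).toLinearMap.rTensor A (Comod.coact (k := k) (A := A) f) := h1
  rw [h2, orbitHom_apply, ← LinearMap.comp_apply (LinearMap.rTensor A g.toLinearMap),
    ← LinearMap.rTensor_comp]
  rfl

end

section Points

variable {k : Type u} {A : Type v} [Field k] [CommRing A] [Bialgebra k A]
variable {R : Type w} [CommRing R] [Algebra k R] [Comod k A R] [IsCoactAlg k A R]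

lemma actPt_one (x : R →ₐ[k] k) : actPt k (1 : WithConv (A →ₐ[k] k)).ofConv x = x := by
  ext f
  rw [actPt_apply, ← orbitHom_act, ComodPoints.act_one]
  rfl

lemma actPt_mul (x : R →ₐ[k] k) (g h : WithConv (A →ₐ[k] k)) :
    actPt k (g * h).ofConv x = actPt k h.ofConv (actPt k g.ofConv x) := by
  ext f
  rw [actPt_apply, ← orbitHom_act, ComodPoints.act_mul, LinearMap.comp_apply, orbitHom_act,
    actPt_apply, ← orbitHom_act (actPt k g.ofConv x), actPt_apply]

end Points

section Hopf

/-- Cartier's theorem for Hopf algebras. -/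
theorem isReduced_hopf (K : Type u) [Field K] [IsAlgClosed K] [CharZero K] (B : Type u)
    [CommRing B] [HopfAlgebra K B] [Algebra.FiniteType K B] : IsReduced B := by
  have h1 : AlgebraicGeometry.LocallyOfFiniteType
      (Groth.Agent.Books.AffBridge.SpecOver K B).hom :=
    (Groth.Agent.Books.AffBridge2.locallyOfFiniteType_specOver_iff K B).2 inferInstance
  have h2 : AlgebraicGeometry.IsReduced (Groth.Agent.Books.AffBridge.SpecOver K B).left :=
    Groth.Agent.Localalg.CartierSch.isReduced_of_isAlgClosed _
  exact (AlgebraicGeometry.affine_isReduced_iff (CommRingCat.of B)).1 h2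

variable {k : Type u} {A : Type v} [Field k] [CommRing A] [HopfAlgebra k A]
variable {R : Type w} [CommRing R] [Algebra k R] [Comod k A R] [IsCoactAlg k A R]

/-- Ideals of orbit closures of points of the same orbit agree. -/
lemma ker_orbitHom_actPt (x : R →ₐ[k] k) (g : A →ₐ[k] k) :
    RingHom.ker (orbitHom k A (actPt k g x)) = RingHom.ker (orbitHom k A x) := by
  have key : ∀ (x : R →ₐ[k] k) (g : A →ₐ[k] k), RingHom.ker (orbitHom k A x) ≤
      RingHom.ker (orbitHom k A (actPt k g x)) := by
    intro x g f hf
    rw [RingHom.mem_ker] at hf ⊢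
    rw [orbitHom_actPt, hf, map_zero, map_zero, map_zero]
  refine le_antisymm ?_ (key x g)
  have h2 : actPt k (WithConv.toConv g)⁻¹.ofConv (actPt k g x) = x := by
    have := actPt_mul (k := k) (A := A) x (WithConv.toConv g) (WithConv.toConv g)⁻¹
    rw [mul_inv_cancel, actPt_one] at this
    exact this.symm
  conv_rhs => rw [← h2]
  exact key _ _

variable [IsAlgClosed k] [Algebra.FiniteType k A] [IsReduced A]

/-- `f` vanishes on the orbit iff it is killed by the orbit map. -/
lemma forall_act_eq_zero_iff (x : R →ₐ[k] k) (f : R) :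
    (∀ g : A →ₐ[k] k, x (Comod.act k A R g f) = 0) ↔ f ∈ RingHom.ker (orbitHom k A x) := by
  rw [RingHom.mem_ker]
  constructor
  · intro h
    refine PointsAC.eq_zero_of_forall_point k A _ fun g => ?_
    rw [← orbitHom_act, h]
  · intro h g
    rw [orbitHom_act, h, map_zero]

end Hopf

end K701.Orbit
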