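import Mathlib.LinearAlgebra.Matrix.SpecialLinearGroup
import Mathlib.Tactic

/-!
# The special linear group over a field is generated by transvections

* `diag2n_eq`: Whitehead's formula;
* `sl_induction`: induction principle.
-/

set_option autoImplicit false

namespace K701.SLGen

open Matrix Matrix.SpecialLinearGroup

variable {ι : Type*} [Fintype ι] [DecidableEq ι] {F : Type*} [Field F]

lemma transvection_mul_apply (i j : ι) (c : F) (M : Matrix ι ι F) (a b : ι) :
    (Matrix.transvection i j c * M) a b = if a = i then M i b + c * M j b else M a b := by
  split_ifs with h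
  · subst h
    exact Matrix.transvection_mul_apply_same a j b c M
  · exact Matrix.transvection_mul_apply_of_ne i j a b h c M

/-- Whitehead's formula. -/
theorem diag2n_eq {i j : ι} (hij : i ≠ j) (c : F) (hc : c ≠ 0) :
    diag2n hij c hc = SpecialLinearGroup.transvection hij c *
      (SpecialLinearGroup.transvection hij.symm (-c⁻¹) *
      (SpecialLinearGroup.transvection hij c *
      (SpecialLinearGroup.transvection hij (-1) *
      (SpecialLinearGroup.transvection hij.symm 1 *
      (SpecialLinearGroup.transvection hij (-1) * 1))))) := by
  apply Subtype.ext
  simp only [coe_mul, diag2n_coe, coe_one]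
  change _ = Matrix.transvection i j c * (Matrix.transvection j i (-c⁻¹) *
    (Matrix.transvection i j c * (Matrix.transvection i j (-1) * (Matrix.transvection j i 1 *
    (Matrix.transvection i j (-1) * 1)))))
  ext a b
  simp only [transvection_mul_apply, Matrix.one_apply, Matrix.diagonal_apply]
  have hji : j ≠ i := hij.symm
  have hcc : c⁻¹ * c = 1 := inv_mul_cancel₀ hc
  have hcc' : c * c⁻¹ = 1 := mul_inv_cancel₀ hc
  by_cases hai : a = i
  · subst hai
    by_cases hab : a = b
    · subst hab
      simp [hij, hji]
      ring_nf
      simp [hc]
    · by_cases hjb : j = b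
      · subst hjb
        simp [hij, hji]
        ring_nf
        simp [hc]
      · simp [hij, hji, hab, hjb]
  · by_cases haj : a = j
    · subst haj
      by_cases hab : a = b
      · subst hab
        simp [hij, hji]
      · by_cases hib : i = b
        · subst hib
          simp [hij, hji]
          try ring_nf
          try simp [hc]
        · simp [hij, hji, hab, hib]
    · simp [hai, haj]

/-- The special linear group over a field is generated by transvections. -/
theorem sl_induction (P : SpecialLinearGroup ι F → Prop) (h1 : P 1)
    (htransvec : ∀ (i j : ι) (hij : i ≠ j) (a : F), P (SpecialLinearGroup.transvection hij a))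
    (hmul : ∀ A B, P A → P B → P (A * B)) (M : SpecialLinearGroup ι F) : P M := by
  rcases subsingleton_or_nontrivial ι with h | h
  · have : M = 1 := Subsingleton.elim _ _
    rw [this]
    exact h1
  · refine diagonal_transvection_induction' P M ?_ htransvec hmul
    intro i j hij c hc
    rw [diag2n_eq]
    exact hmul _ _ (htransvec _ _ _ _) (hmul _ _ (htransvec _ _ _ _) (hmul _ _ (htransvec _ _ _ _)
      (hmul _ _ (htransvec _ _ _ _) (hmul _ _ (htransvec _ _ _ _)
      (hmul _ _ (htransvec _ _ _ _) h1)))))

end K701.SLGen
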