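import Groth.Prelude.Def_GLin5
import Groth.Agent.InvQ.K701.SLGen
import Mathlib.RingTheory.Bialgebra.Convolution
import Mathlib.Tactic

/-!
# Points of the general and special linear groups

* `ptU`: the point of `GL_n` given by an invertible matrix, `ptHom` the group homomorphism;
* `sptHom`: the homomorphism from the special linear group to the points of `SLn n k`;
* `exists_ptU_eq`, `exists_spt_eq`: every point is of this form.
-/

set_option autoImplicit false

universe u v

open TensorProduct CoordGrp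

namespace K701.GLPts

variable {n : ℕ} {k : Type u} [CommRing k]

/-- The point of the general linear group given by an invertible matrix. -/
noncomputable def ptU (g : (Matrix (Fin n) (Fin n) k)ˣ) : GLn n k →ₐ[k] k :=
  GLn.pt n k g.val (g⁻¹).val.det (by rw [← Matrix.det_mul, Units.mul_inv, Matrix.det_one])

@[simp] lemma ptU_X (g : (Matrix (Fin n) (Fin n) k)ˣ) (i j : Fin n) :
    ptU g (GLn.X i j) = g.val i j := GLn.pt_X _ _ _ i j

@[simp] lemma ptU_Dinv (g : (Matrix (Fin n) (Fin n) k)ˣ) :
    ptU g (GLn.Dinv) = (g⁻¹).val.det := GLn.pt_Dinv _ _ _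

@[simp] lemma ptU_det (g : (Matrix (Fin n) (Fin n) k)ˣ) :
    ptU g (GLn.det) = g.val.det := GLn.pt_det _ _ _

lemma algHom_det {B : Type v} [CommRing B] [Algebra k B] (g : GLn n k →ₐ[k] B) :
    g GLn.det = Matrix.det (Matrix.of fun i j => g (GLn.X i j)) := by
  rw [GLn.det_eq, AlgHom.map_det]
  rfl

/-- The homomorphism from the group of invertible matrices to the group of points of `GLn n k`. -/
noncomputable def ptHom : (Matrix (Fin n) (Fin n) k)ˣ →* WithConv (GLn n k →ₐ[k] k) where
  toFun g := WithConv.toConv (ptU g)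
  map_one' := by
    apply WithConv.ofConv_injective
    apply GLn.algHom_ext
    · intro i j
      change ptU 1 (GLn.X i j) = CoalgebraStruct.counit (R := k) (GLn.X i j : GLn n k)
      rw [ptU_X, GLn.counit_X, Units.val_one, Matrix.one_apply]
    · change ptU 1 (GLn.Dinv) = CoalgebraStruct.counit (R := k) (GLn.Dinv : GLn n k)
      rw [ptU_Dinv, GLn.counit_Dinv]
      simp
  map_mul' g h := by
    apply WithConv.ofConv_injective
    apply GLn.algHom_ext
    · intro i j
      change ptU (g * h) (GLn.X i j) = (WithConv.toConv (ptU g) * WithConv.toConv (ptU h)) (GLn.X i j)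
      rw [AlgHom.convMul_apply, GLn.comul_X, ptU_X, map_sum, Units.val_mul, Matrix.mul_apply]
      simp
    · change ptU (g * h) (GLn.Dinv) = (WithConv.toConv (ptU g) * WithConv.toConv (ptU h)) (GLn.Dinv)
      rw [AlgHom.convMul_apply, GLn.comul_Dinv, ptU_Dinv]
      simp [Matrix.det_mul, mul_comm]

@[simp] lemma ofConv_ptHom (g : (Matrix (Fin n) (Fin n) k)ˣ) : (ptHom g).ofConv = ptU g := rfl

/-- Every point comes from an invertible matrix. -/
theorem exists_ptU_eq (g : GLn n k →ₐ[k] k) : ∃ u : (Matrix (Fin n) (Fin n) k)ˣ, ptU u = g := by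
  have h1 : IsUnit (Matrix.det (Matrix.of fun i j => g (GLn.X i j))) := by
    rw [← algHom_det]
    exact (IsUnit.of_mul_eq_one _ (GLn.det_mul_Dinv (n := n) (k := k))).map g
  have h2 : IsUnit (Matrix.of fun i j => g (GLn.X i j)) :=
    (Matrix.isUnit_iff_isUnit_det _).2 h1
  obtain ⟨u, hu⟩ := h2
  have h3 : ∀ i j, ptU u (GLn.X i j) = g (GLn.X i j) := by
    intro i j
    rw [ptU_X, hu, Matrix.of_apply]
  have h4 : ptU u GLn.det = g GLn.det := by
    rw [algHom_det, algHom_det]
    congr 1
    ext i j
    exact h3 i j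
  refine ⟨u, GLn.algHom_ext h3 ?_⟩
  have h5 : IsUnit (g GLn.det) := (IsUnit.of_mul_eq_one _ (GLn.det_mul_Dinv (n := n) (k := k))).map g
  apply h5.mul_left_cancel
  rw [← map_mul, GLn.det_mul_Dinv, map_one, ← h4, ← map_mul, GLn.det_mul_Dinv, map_one]

/-- The point of the special linear group given by a matrix of determinant one. -/
noncomputable def spt (g : Matrix.SpecialLinearGroup (Fin n) k) : SLn n k →ₐ[k] k :=
  SLn.pt n k g.1 g.2

@[simp] lemma spt_X (g : Matrix.SpecialLinearGroup (Fin n) k) (i j : Fin n) :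
    spt g (SLn.X i j) = g.1 i j := SLn.pt_X _ _ i j

lemma mk_det_mul_mk_Dinv : SLn.mk n k GLn.det * SLn.mk n k GLn.Dinv = 1 := by
  rw [← map_mul, GLn.det_mul_Dinv, map_one]

lemma mk_Dinv : SLn.mk n k (GLn.Dinv) = 1 := by
  have := mk_det_mul_mk_Dinv (n := n) (k := k)
  rwa [SLn.det_eq_one, one_mul] at this

lemma sln_algHom_ext {B : Type v} [Semiring B] [Algebra k B] {f g : SLn n k →ₐ[k] B}
    (h : ∀ i j, f (SLn.X i j) = g (SLn.X i j)) : f = g :=
  SLn.algHom_ext h (by rw [mk_Dinv, map_one, map_one])

lemma sln_comul_mk (x : GLn n k) : CoalgebraStruct.comul (R := k) (SLn.mk n k x) =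
    Algebra.TensorProduct.map (SLn.mk n k) (SLn.mk n k) (CoalgebraStruct.comul (R := k) x) :=
  Bialgebra.Quotient.comul_mk (GLn.slIdeal n k) x

lemma sln_comul_X (i j : Fin n) : CoalgebraStruct.comul (R := k) (SLn.X i j : SLn n k) =
    ∑ l : Fin n, SLn.X i l ⊗ₜ[k] SLn.X l j := by
  change CoalgebraStruct.comul (R := k) (SLn.mk n k (GLn.X i j)) = _
  rw [sln_comul_mk, GLn.comul_X, map_sum]
  rfl

lemma sln_counit_mk (x : GLn n k) : CoalgebraStruct.counit (R := k) (SLn.mk n k x) =
    CoalgebraStruct.counit (R := k) x :=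
  congrArg (fun f => f x) (SLn.mkHom n k).counit_comp

lemma sln_counit_X (i j : Fin n) : CoalgebraStruct.counit (R := k) (SLn.X i j : SLn n k) =
    if i = j then (1 : k) else 0 := by
  rw [← GLn.counit_X, ← sln_counit_mk]
  rfl

/-- The homomorphism from the special linear group to the group of points of `SLn n k`. -/
noncomputable def sptHom : Matrix.SpecialLinearGroup (Fin n) k →* WithConv (SLn n k →ₐ[k] k) where
  toFun g := WithConv.toConv (spt g)
  map_one' := by
    apply WithConv.ofConv_injective
    apply sln_algHom_ext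
    intro i j
    change spt 1 (SLn.X i j) = CoalgebraStruct.counit (R := k) (SLn.X i j : SLn n k)
    rw [spt_X, sln_counit_X, ← Matrix.one_apply]
    rfl
  map_mul' g h := by
    apply WithConv.ofConv_injective
    apply sln_algHom_ext
    intro i j
    change spt (g * h) (SLn.X i j) = (WithConv.toConv (spt g) * WithConv.toConv (spt h)) (SLn.X i j)
    rw [AlgHom.convMul_apply, sln_comul_X, spt_X, map_sum]
    change (g.1 * h.1) i j = _
    rw [Matrix.mul_apply]
    simp

@[simp] lemma ofConv_sptHom (g : Matrix.SpecialLinearGroup (Fin n) k) :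
    (sptHom g).ofConv = spt g := rfl

/-- Every point of `SLn n k` comes from the special linear group. -/
theorem exists_spt_eq (g : SLn n k →ₐ[k] k) :
    ∃ s : Matrix.SpecialLinearGroup (Fin n) k, spt s = g := by
  have h1 : Matrix.det (Matrix.of fun i j => g (SLn.X i j)) = 1 := by
    have := algHom_det (g.comp (SLn.mk n k))
    rw [AlgHom.comp_apply, SLn.det_eq_one, map_one] at this
    exact this.symm
  refine ⟨⟨Matrix.of fun i j => g (SLn.X i j), h1⟩, sln_algHom_ext fun i j => ?_⟩
  exact spt_X (⟨Matrix.of fun i j => g (SLn.X i j), h1⟩ : Matrix.SpecialLinearGroup (Fin n) k) i j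

/-- The points of `SLn` as points of `GLn`. -/
lemma spt_comp_mk (s : Matrix.SpecialLinearGroup (Fin n) k) (u : (Matrix (Fin n) (Fin n) k)ˣ)
    (h : u.val = s.1) : (spt s).comp (SLn.mk n k) = ptU u := by
  apply GLn.algHom_ext
  · intro i j
    rw [ptU_X, h]
    exact spt_X s i j
  · rw [AlgHom.comp_apply, mk_Dinv, map_one, ptU_Dinv]
    have h1 : u.val.det * (u⁻¹).val.det = 1 := by
      rw [← Matrix.det_mul, Units.mul_inv, Matrix.det_one]
    rw [h, s.2, one_mul] at h1
    exact h1.symm

instance finiteType_gln : Algebra.FiniteType k (GLn n k) := by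
  have : Algebra.FiniteType k (GLb n k) :=
    inferInstanceAs (Algebra.FiniteType k (MvPolynomial (GLPoly.Idx n) k))
  exact Algebra.FiniteType.of_surjective (GLn.mk n k) Ideal.Quotient.mk_surjective

instance finiteType_sln : Algebra.FiniteType k (SLn n k) :=
  Algebra.FiniteType.of_surjective (SLn.mk n k) Ideal.Quotient.mk_surjective

end K701.GLPts
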