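import Groth.Agent.Books.ComodInv
import Groth.Agent.Books.ComodPoints
import Groth.Prelude.Def_W4bk6mukai47Inv
import Mathlib.RingTheory.HopfAlgebra.Basic
import Mathlib.RingTheory.FiniteType
import Mathlib.FieldTheory.IsAlgClosed.Basic

/-!
# Comodule algebras over a linearly reductive Hopf algebra

* `isComodHom_mulRight`: multiplication by an invariant is a comodule homomorphism;
* `exists_fixed_combination`: if a fixed `w` lies in `I + Σ R f_p` with `I` a stable ideal and the
  `f_p` fixed, the coefficients may be chosen fixed;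
* `exists_fixed_mem_of_sup_eq_top`: two stable ideals with `I ⊔ J = ⊤` are separated by an
  invariant.
* `exists_point_of_ne_top`: Nullstellensatz.
-/

set_option autoImplicit false

universe u v w

open TensorProduct HopfRep

namespace K701.Basic

open Groth.Agent.Books.ComodBasic Groth.Agent.Books.ComodHom Groth.Agent.Books.ComodInv
open Groth.Agent.Books

section

variable {k : Type u} {A : Type v} [Field k] [CommRing A] [Bialgebra k A]

lemma isComodHom_sum {V W : Type*} [AddCommGroup V] [Module k V] [AddCommGroup W] [Module k W]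
    [Comod k A V] [Comod k A W] {ι : Type*} (s : Finset ι) (f : ι → V →ₗ[k] W)
    (hf : ∀ i ∈ s, IsComodHom k A (f i)) : IsComodHom k A (∑ i ∈ s, f i) := by
  classical
  induction s using Finset.induction_on with
  | empty => exact isComodHom_zero
  | insert i s hi ih =>
    rw [Finset.sum_insert hi]
    exact (hf i (Finset.mem_insert_self _ _)).add
      (ih fun j hj => hf j (Finset.mem_insert_of_mem hj))

variable {R : Type w} [CommRing R] [Algebra k R] [Comod k A R]

/-- Multiplication by a fixed element is a comodule homomorphism. -/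
lemma isComodHom_mulRight
    (hmul : ∀ f g : R, Comod.coact (k := k) (A := A) (f * g) =
      Comod.coact (k := k) (A := A) f * Comod.coact (k := k) (A := A) g)
    {p : R} (hp : p ∈ fixedPts k A R) :
    IsComodHom k A (LinearMap.mulRight k p) := by
  intro g
  rw [LinearMap.mulRight_apply, hmul, (mem_fixedPts_iff p).1 hp]
  generalize Comod.coact (k := k) (A := A) g = y
  induction y with
  | zero => simp
  | tmul x a => simp
  | add x y hx hy => rw [add_mul, map_add, hx, hy]

lemma mem_fixedPts_mul
    (hmul : ∀ f g : R, Comod.coact (k := k) (A := A) (f * g) =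
      Comod.coact (k := k) (A := A) f * Comod.coact (k := k) (A := A) g)
    {p q : R} (hp : p ∈ fixedPts k A R) (hq : q ∈ fixedPts k A R) : p * q ∈ fixedPts k A R := by
  rw [mem_fixedPts_iff] at *
  rw [hmul, hp, hq, Algebra.TensorProduct.tmul_mul_tmul, one_mul]

lemma one_mem_fixedPts (hone : Comod.coact (k := k) (A := A) (1 : R) = 1) :
    (1 : R) ∈ fixedPts k A R := by
  rw [mem_fixedPts_iff, hone, Algebra.TensorProduct.one_def]

lemma algebraMap_mem_fixedPts (hone : Comod.coact (k := k) (A := A) (1 : R) = 1) (c : k) :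
    algebraMap k R c ∈ fixedPts k A R := by
  rw [Algebra.algebraMap_eq_smul_one]
  exact Submodule.smul_mem _ _ (one_mem_fixedPts hone)

end

section Reductive

variable {k : Type u} {A : Type v} [Field k] [CommRing A] [Bialgebra k A]
variable {R : Type v} [CommRing R] [Algebra k R] [Comod k A R]

/-- If a fixed element lies in the sum of a stable ideal and the ideal generated by finitely many
fixed elements, the coefficients can be chosen fixed. -/
theorem exists_fixed_combination (hG : IsLinearlyReductive k A)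
    (hmul : ∀ f g : R, Comod.coact (k := k) (A := A) (f * g) =
      Comod.coact (k := k) (A := A) f * Comod.coact (k := k) (A := A) g)
    (I : Ideal R) (hI : IsSubcomod (k := k) (A := A) (I.restrictScalars k))
    (s : Finset R) (hs : ∀ p ∈ s, p ∈ fixedPts k A R) {w : R} (hw : w ∈ fixedPts k A R)
    (hwI : w ∈ I ⊔ Ideal.span (s : Set R)) :
    ∃ r : s → R, (∀ p, r p ∈ fixedPts k A R) ∧ w - ∑ p : s, r p * p.1 ∈ I := by
  classical
  obtain ⟨i, hi, j, hj, hij⟩ := Submodule.mem_sup.1 hwI
  obtain ⟨h, hh⟩ := Submodule.mem_span_finset'.1 hj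
  let := piComod (k := k) (A := A) s R
  let := quotComod (I.restrictScalars k) hI
  set Φ : (s → R) →ₗ[k] R := ∑ p : s, LinearMap.mulRight k p.1 ∘ₗ LinearMap.proj p with hΦ
  have hΦhom : IsComodHom k A Φ := by
    refine isComodHom_sum _ _ fun p _ => ?_
    exact (isComodHom_mulRight hmul (hs p.1 p.2)).comp (isComodHom_proj p)
  have hΦa : ∀ h : s → R, Φ h = ∑ p : s, h p * p.1 := by
    intro h
    simp [hΦ]
  have hq : IsComodHom k A (I.restrictScalars k).mkQ := isComodHom_mkQ _ hI
  have hw' : (I.restrictScalars k).mkQ w ∈ fixedPts k A (R ⧸ I.restrictScalars k) :=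
    IsComodHom.map_mem_fixedPts hq hw
  have hv : ((I.restrictScalars k).mkQ ∘ₗ Φ) h = (I.restrictScalars k).mkQ w := by
    rw [LinearMap.comp_apply, ← sub_eq_zero, ← map_sub, Submodule.mkQ_apply,
      Submodule.Quotient.mk_eq_zero, Submodule.restrictScalars_mem, hΦa]
    have : ∑ p : s, h p * p.1 = j := hh
    rw [this, ← hij, sub_add_cancel_right]
    exact I.neg_mem hi
  obtain ⟨r, hr, hrw⟩ := exists_fixed_lift hG (hq.comp hΦhom) hw' hv
  refine ⟨r, fun p => IsComodHom.map_mem_fixedPts (isComodHom_proj p) hr, ?_⟩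
  rw [LinearMap.comp_apply, ← sub_eq_zero, ← map_sub, Submodule.mkQ_apply,
    Submodule.Quotient.mk_eq_zero, Submodule.restrictScalars_mem, hΦa] at hrw
  rw [← neg_sub]
  exact I.neg_mem hrw

/-- Two stable ideals generating the unit ideal are separated by an invariant. -/
theorem exists_fixed_mem_of_sup_eq_top (hG : IsLinearlyReductive k A)
    (hone : Comod.coact (k := k) (A := A) (1 : R) = 1)
    (I J : Ideal R) (hI : IsSubcomod (k := k) (A := A) (I.restrictScalars k))
    (hJ : IsSubcomod (k := k) (A := A) (J.restrictScalars k)) (h : I ⊔ J = ⊤) :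
    ∃ f ∈ fixedPts k A R, f ∈ I ∧ f - 1 ∈ J := by
  obtain ⟨i, hi, j, hj, hij⟩ := Submodule.mem_sup.1 ((Ideal.eq_top_iff_one _).1 h)
  let := subComod (I.restrictScalars k) hI
  let := quotComod (J.restrictScalars k) hJ
  have hq : IsComodHom k A (J.restrictScalars k).mkQ := isComodHom_mkQ _ hJ
  have hs : IsComodHom k A (I.restrictScalars k).subtype := isComodHom_subtype _ hI
  have hw' : (J.restrictScalars k).mkQ 1 ∈ fixedPts k A (R ⧸ J.restrictScalars k) :=
    IsComodHom.map_mem_fixedPts hq (one_mem_fixedPts hone)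
  obtain ⟨r, hr, hrw⟩ := exists_fixed_lift hG (hq.comp hs) hw' (v := ⟨i, hi⟩) (by
    rw [LinearMap.comp_apply, ← sub_eq_zero, ← map_sub, Submodule.mkQ_apply,
      Submodule.Quotient.mk_eq_zero, Submodule.restrictScalars_mem, ← hij]
    simpa using hj)
  refine ⟨r.1, IsComodHom.map_mem_fixedPts hs hr, r.2, ?_⟩
  rw [LinearMap.comp_apply, ← sub_eq_zero, ← map_sub, Submodule.mkQ_apply,
    Submodule.Quotient.mk_eq_zero, Submodule.restrictScalars_mem] at hrw
  exact hrw

end Reductive

section Null

variable (k : Type u) [Field k] [IsAlgClosed k] (R : Type v) [CommRing R] [Algebra k R]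
  [Algebra.FiniteType k R]

/-- Nullstellensatz: a proper ideal has a zero. -/
theorem exists_point_of_ne_top (I : Ideal R) (hI : I ≠ ⊤) :
    ∃ x : R →ₐ[k] k, ∀ f ∈ I, x f = 0 := by
  obtain ⟨m, hm, hIm⟩ := Ideal.exists_le_maximal I hI
  obtain ⟨g, hg⟩ := PointsAC.exists_point_of_isMaximal k R m
  refine ⟨g, fun f hf => ?_⟩
  rw [← RingHom.mem_ker, hg]
  exact hIm hf

variable {k R}

/-- Nullstellensatz: an element killed by all zeros of an ideal lies in its radical. -/
theorem mem_radical_of_forall_point (I : Ideal R) (f : R)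
    (h : ∀ x : R →ₐ[k] k, (∀ g ∈ I, x g = 0) → x f = 0) : f ∈ I.radical := by
  have h1 : IsNilpotent (Ideal.Quotient.mk I f) := by
    refine PointsAC.isNilpotent_of_forall_point k (R ⧸ I) _ fun g => ?_
    exact h (g.comp (Ideal.Quotient.mkₐ k I)) fun a ha => by
      have : Ideal.Quotient.mkₐ k I a = 0 := Ideal.Quotient.eq_zero_iff_mem.2 ha
      rw [AlgHom.comp_apply, this, map_zero]
  obtain ⟨n, hn⟩ := h1
  rw [← map_pow, Ideal.Quotient.eq_zero_iff_mem] at hn
  exact ⟨n, hn⟩

end Null

end K701.Basic
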